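import Cfsg.Agent.Lib.LocalEven.MinOffender.Basic
import Cfsg.Agent.Lib.LocalEven.FaithfulBound.ModelL2
import Cfsg.Agent.Lib.LocalEven.RankOne.Model

/-!
A group containing `SL₂` on its natural module whose Sylow subgroups normalise it: the stabiliser of a line.
-/

set_option autoImplicit false
set_option linter.unusedSectionVars false

namespace CfsgLib.LocalEven.NatSylow

open CfsgLib.Fusion (conjSub mem_conjSub conj_mem_conjSub)
open CfsgLib.LocalEven.MinOffender (fx fx_anti mem_fx_conj smul_mem_fx_conj)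
open CfsgLib.LocalEven.FaithfulBound (upper lower upper00 upper01 upper10 upper11 lower00 lower01 lower10 lower11)
open Matrix (SpecialLinearGroup)

variable {Γ : Type*} [Group Γ] [Finite Γ] {M : Type*} [AddCommGroup M] [DistribMulAction Γ M] [Finite M]
variable {F : Type*} [Field F] [Finite F]

local notation "S₂" => SpecialLinearGroup (Fin 2) F

theorem upper_mulVec (t : F) (v : Fin 2 → F) : (upper t).1.mulVec v = ![v 0 + t * v 1, v 1] := by
  ext i; fin_cases i <;> simp [Matrix.mulVec, dotProduct, Fin.sum_univ_two, upper00, upper01, upper10, upper11]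

theorem lower_mulVec (t : F) (v : Fin 2 → F) : (lower t).1.mulVec v = ![v 0, v 1 + t * v 0] := by
  ext i; fin_cases i <;>
    simp [Matrix.mulVec, dotProduct, Fin.sum_univ_two, lower00, lower01, lower10, lower11, add_comm]

theorem upper_add (s t : F) : upper (s + t) = upper s * upper t := by
  apply Subtype.ext
  show _ = (upper s).1 * (upper t).1
  ext i j; fin_cases i <;> fin_cases j <;> simp [upper, Matrix.mul_apply, Fin.sum_univ_two, add_comm]

theorem upper_zero : upper (0 : F) = 1 := by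
  apply Subtype.ext
  ext i j; fin_cases i <;> fin_cases j <;> simp [upper]

/-- The setting. -/
structure Data (p : ℕ) (L : Subgroup Γ) (F : Type*) [Field F] (M : Type*) [AddCommGroup M]
    [DistribMulAction Γ M] where
  exp : ∀ m : M, p • m = 0
  faithful : ∀ g : Γ, (∀ m : M, g • m = m) → g = 1
  ρ : ↥L →* SpecialLinearGroup (Fin 2) F
  ψ : M ≃+ (Fin 2 → F)
  bij : Function.Bijective ρ
  act : ∀ (l : ↥L) (m : M), ψ ((l : Γ) • m) = (ρ l).1.mulVec (ψ m)
  T : Sylow p Γ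
  upper_mem : ∀ l : ↥L, (∃ t, ρ l = upper t) → (l : Γ) ∈ (T : Subgroup Γ)
  normT : (T : Subgroup Γ) ≤ Subgroup.normalizer (L : Set Γ)

namespace Data

variable {p : ℕ} [Fact p.Prime] [CharP F p] {L : Subgroup Γ} (d : Data p L F M)

/-- Coordinates to points. -/
def pt (x y : F) : M := d.ψ.symm ![x, y]

theorem ψ_pt (x y : F) : d.ψ (d.pt x y) = ![x, y] := d.ψ.apply_symm_apply _

theorem ext_ψ {m n : M} (h₀ : d.ψ m 0 = d.ψ n 0) (h₁ : d.ψ m 1 = d.ψ n 1) : m = n :=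
  d.ψ.injective (funext fun i => by fin_cases i <;> assumption)

theorem pt_coe (m : M) : d.pt (d.ψ m 0) (d.ψ m 1) = m :=
  d.ext_ψ (by rw [d.ψ_pt]; rfl) (by rw [d.ψ_pt]; rfl)

theorem pt_zero : d.pt 0 0 = 0 := d.ext_ψ (by simp [d.ψ_pt]) (by simp [d.ψ_pt])

/-- The upper unitriangular element with parameter `t`. -/
noncomputable def up (t : F) : Γ := ((Function.surjInv d.bij.2 (upper t) : ↥L) : Γ)

theorem up_mem_L (t : F) : d.up t ∈ L := (Function.surjInv d.bij.2 (upper t)).2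

theorem ρ_up (t : F) : d.ρ ⟨d.up t, d.up_mem_L t⟩ = upper t := Function.surjInv_eq d.bij.2 (upper t)

theorem ψ_up (t : F) (m : M) : d.ψ (d.up t • m) = ![d.ψ m 0 + t * d.ψ m 1, d.ψ m 1] := by
  rw [show d.up t = ((⟨d.up t, d.up_mem_L t⟩ : ↥L) : Γ) from rfl, d.act, d.ρ_up, upper_mulVec]

theorem up_pt (t x y : F) : d.up t • d.pt x y = d.pt (x + t * y) y := d.ψ.injective (by
  rw [d.ψ_up, d.ψ_pt, d.ψ_pt]; rfl)

theorem up_add (s t : F) : d.up (s + t) = d.up s * d.up t :=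
  congrArg Subtype.val (d.bij.1 (a₁ := ⟨d.up (s + t), d.up_mem_L _⟩)
    (a₂ := ⟨d.up s, d.up_mem_L s⟩ * ⟨d.up t, d.up_mem_L t⟩) (by rw [map_mul, d.ρ_up, d.ρ_up, d.ρ_up, upper_add]))

theorem up_zero : d.up 0 = 1 :=
  congrArg Subtype.val (d.bij.1 (a₁ := ⟨d.up 0, d.up_mem_L _⟩) (a₂ := 1) (by rw [map_one, d.ρ_up, upper_zero]))

theorem up_injective : Function.Injective d.up := fun s t e => by
  have h1 := congrArg (fun g : Γ => d.ψ (g • d.pt 0 1) 0) e
  simpa [d.ψ_up, d.ψ_pt] using h1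

/-- The upper unitriangular group. -/
def A : Subgroup Γ where
  carrier := Set.range d.up
  one_mem' := ⟨0, d.up_zero⟩
  mul_mem' := by rintro _ _ ⟨s, rfl⟩ ⟨t, rfl⟩; exact ⟨s + t, d.up_add s t⟩
  inv_mem' := by
    rintro _ ⟨s, rfl⟩
    exact ⟨-s, eq_inv_of_mul_eq_one_left (by rw [← d.up_add, neg_add_cancel, d.up_zero])⟩

theorem mem_A {g : Γ} : g ∈ d.A ↔ ∃ t, d.up t = g := Iff.rfl

theorem A_le_L : d.A ≤ L := by rintro _ ⟨t, rfl⟩; exact d.up_mem_L t

theorem A_le_T : d.A ≤ (d.T : Subgroup Γ) := by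
  rintro _ ⟨t, rfl⟩
  exact d.upper_mem ⟨d.up t, d.up_mem_L t⟩ ⟨t, d.ρ_up t⟩

theorem card_A : Nat.card ↥d.A = Nat.card F :=
  (Nat.card_congr (Equiv.ofBijective (fun t => (⟨d.up t, t, rfl⟩ : ↥d.A))
    ⟨fun s t e => d.up_injective (congrArg (fun z : ↥d.A => (z : Γ)) e), fun ⟨_, t, ht⟩ => ⟨t, Subtype.ext ht⟩⟩)).symm

theorem A_comm : ∀ a ∈ d.A, ∀ b ∈ d.A, a * b = b * a := by
  rintro _ ⟨s, rfl⟩ _ ⟨t, rfl⟩
  rw [← d.up_add, ← d.up_add, add_comm]

theorem pA : IsPGroup p ↥d.A := d.T.2.to_le d.A_le_T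

theorem A_ne_bot : d.A ≠ ⊥ := fun e =>
  one_ne_zero (d.up_injective (a₁ := (1 : F)) (a₂ := 0) (by
    rw [d.up_zero]
    exact Subgroup.mem_bot.1 (e ▸ (⟨1, rfl⟩ : d.up 1 ∈ d.A))))

/-- The fixed line. -/
theorem mem_fxA {m : M} : m ∈ fx M d.A ↔ d.ψ m 1 = 0 := by
  constructor
  · intro hm
    have h1 := congrArg (fun v : M => d.ψ v 0) (hm (d.up 1) ⟨1, rfl⟩)
    simpa [d.ψ_up] using h1
  · rintro hm _ ⟨t, rfl⟩
    refine d.ext_ψ ?_ ?_ <;> simp [d.ψ_up, hm]

theorem pt_mem (x : F) : d.pt x 0 ∈ fx M d.A := d.mem_fxA.2 (by simp [d.ψ_pt])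

theorem card_fxA : Nat.card ↥(fx M d.A) = Nat.card F :=
  (Nat.card_congr (Equiv.ofBijective (fun x => (⟨d.pt x 0, d.pt_mem x⟩ : ↥(fx M d.A)))
    ⟨fun x y e => by simpa [d.ψ_pt] using congrArg (fun v : ↥(fx M d.A) => d.ψ v 0) e,
      fun ⟨m, hm⟩ => ⟨d.ψ m 0, Subtype.ext (by
        show d.pt (d.ψ m 0) 0 = m
        rw [← d.mem_fxA.1 hm, d.pt_coe])⟩⟩)).symm

theorem card_M (d : Data p L F M) : Nat.card M = Nat.card F * Nat.card F := by
  rw [Nat.card_congr (AddEquiv.toEquiv d.ψ), Nat.card_fun, Nat.card_fin, sq]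

theorem fix_of_ne_zero {t : F} (ht : t ≠ 0) {m : M} (hm : d.up t • m = m) : m ∈ fx M d.A := by
  have h1 := congrArg (fun v : M => d.ψ v 0) hm
  exact d.mem_fxA.2 (by simpa [d.ψ_up, ht] using h1)

theorem quad {a b : Γ} (ha : a ∈ d.A) (hb : b ∈ d.A) (v : M) : a • (b • v - v) = b • v - v := by
  obtain ⟨s, rfl⟩ := d.mem_A.1 ha
  obtain ⟨t, rfl⟩ := d.mem_A.1 hb
  exact (d.mem_fxA.2 (by simp [d.ψ_up] : d.ψ (d.up t • v - v) 1 = 0)) _ ha

/-- The stabiliser of the line. -/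
def Me : Subgroup Γ where
  carrier := {g | ∀ m, g • m ∈ fx M d.A ↔ m ∈ fx M d.A}
  one_mem' := fun m => by rw [one_smul]
  mul_mem' := fun {a b} ha hb m => by rw [mul_smul, ha, hb]
  inv_mem' := fun {a} ha m => by rw [← ha, smul_inv_smul]

theorem mem_Me_of_normalises {g : Γ} (hg : g ∈ Subgroup.normalizer (d.A : Set Γ)) : g ∈ d.Me := by
  have key : ∀ {g : Γ}, g ∈ Subgroup.normalizer (d.A : Set Γ) → ∀ m ∈ fx M d.A, g • m ∈ fx M d.A := by
    intro g hg m hm a ha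
    have h1 := hm (g⁻¹ * a * g) ((Subgroup.mem_normalizer_iff''.1 hg a).1 ha)
    rw [mul_smul, mul_smul, inv_smul_eq_iff] at h1
    exact h1
  refine fun m => ⟨fun h => ?_, key hg m⟩
  have h1 := key (inv_mem hg) _ h
  rwa [inv_smul_smul] at h1

theorem A_le_Me : d.A ≤ d.Me := fun _ ha => d.mem_Me_of_normalises (Subgroup.le_normalizer ha)

/-- The elements fixing the line pointwise and its quotient. -/
def R : Subgroup Γ where
  carrier := {g | (∀ m : M, g • m - m ∈ fx M d.A) ∧ ∀ m ∈ fx M d.A, g • m = m}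
  one_mem' := ⟨fun m => by simp [zero_mem], fun m _ => one_smul Γ m⟩
  mul_mem' := fun {a b} ha hb => ⟨fun m => by
      rw [show (a * b) • m - m = (a • b • m - b • m) + (b • m - m) by rw [mul_smul]; abel]
      exact add_mem (ha.1 _) (hb.1 m),
    fun v hv => by rw [mul_smul, hb.2 v hv, ha.2 v hv]⟩
  inv_mem' := fun {a} ha => ⟨fun m => by
      rw [show a⁻¹ • m - m = -(a • (a⁻¹ • m) - a⁻¹ • m) by rw [smul_inv_smul]; abel]
      exact neg_mem (ha.1 _),
    fun v hv => by rw [inv_smul_eq_iff, ha.2 v hv]⟩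

theorem pR : IsPGroup p ↥d.R := fun e => ⟨1, Subtype.ext (by
  rw [pow_one, Subgroup.coe_pow, Subgroup.coe_one]
  refine d.faithful _ fun m => ?_
  have h := e.2.2 _ (e.2.1 m)
  have hpow : ∀ k : ℕ, (e : Γ) ^ k • m = m + k • ((e : Γ) • m - m) := by
    intro k
    induction k with
    | zero => simp
    | succ k ih =>
      rw [pow_succ', mul_smul, ih, smul_add, smul_comm (e : Γ) k, h, succ_nsmul]
      abel
  rw [hpow, d.exp, add_zero])⟩

theorem conj_mem_R {g r : Γ} (hg : g ∈ d.Me) (hr : r ∈ d.R) : g * r * g⁻¹ ∈ d.R := by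
  refine ⟨fun m => ?_, fun m hm => ?_⟩
  · rw [show (g * r * g⁻¹) • m - m = g • (r • g⁻¹ • m - g⁻¹ • m) by
      rw [smul_sub, smul_inv_smul, mul_smul, mul_smul]]
    exact (hg _).2 (hr.1 _)
  · rw [mul_smul, mul_smul, hr.2 _ ((inv_mem hg : g⁻¹ ∈ d.Me) m |>.2 hm), smul_inv_smul]

theorem inter_T : L ⊓ (d.T : Subgroup Γ) = d.A := by
  refine le_antisymm ?_ (le_inf d.A_le_L d.A_le_T)
  by_contra hle
  set P := L ⊓ (d.T : Subgroup Γ)
  have hAP : d.A ≤ P := le_inf d.A_le_L d.A_le_T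
  have hP : IsPGroup p ↥P := d.T.2.to_le inf_le_right
  haveI : Group.IsNilpotent ↥P := hP.isNilpotent
  have hlt : d.A.subgroupOf P < ⊤ := lt_top_iff_ne_top.2 fun e => hle (by
    rw [← Subgroup.map_subgroupOf_eq_of_le hAP, e, ← MonoidHom.range_eq_map, Subgroup.range_subtype])
  obtain ⟨l, hl, hlA⟩ := SetLike.exists_of_lt (normalizerCondition_of_isNilpotent (G := ↥P) _ hlt)
  have hnorm : (l : Γ) ∈ Subgroup.normalizer (d.A : Set Γ) := by
    have := Subgroup.le_normalizer_map (H := d.A.subgroupOf P) P.subtype ⟨l, hl, rfl⟩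
    rwa [Subgroup.map_subgroupOf_eq_of_le hAP] at this
  obtain ⟨k, hk⟩ := hP ⟨(l : Γ), l.2⟩
  have hk' : (⟨(l : Γ), l.2.1⟩ : ↥L) ^ p ^ k = 1 := Subtype.ext (by simpa using congrArg Subtype.val hk)
  set B := d.ρ ⟨(l : Γ), l.2.1⟩ with hB
  have h10 : B.1 1 0 = 0 := by
    have h1 := d.mem_fxA.1 ((d.mem_Me_of_normalises hnorm _).2 (d.pt_mem 1))
    rw [show (l : Γ) = ((⟨(l : Γ), l.2.1⟩ : ↥L) : Γ) from rfl, d.act, d.ψ_pt] at h1
    simpa [Matrix.mulVec, dotProduct, Fin.sum_univ_two] using h1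
  have hdet := B.2
  rw [Matrix.det_fin_two, h10, mul_zero, sub_zero] at hdet
  have hpowC : ∀ (C : S₂), C.1 1 0 = 0 → ∀ n : ℕ, (C ^ n).1 1 0 = 0 ∧ (C ^ n).1 0 0 = C.1 0 0 ^ n := by
    intro C hC n
    induction n with
    | zero => simp
    | succ n ih =>
      rw [pow_succ]
      show ((C ^ n).1 * C.1) 1 0 = 0 ∧ ((C ^ n).1 * C.1) 0 0 = _
      constructor
      · rw [Matrix.mul_apply, Fin.sum_univ_two, ih.1, hC]; ring
      · rw [Matrix.mul_apply, Fin.sum_univ_two, ih.2, hC]; ring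
  have hpow := hpowC B h10
  have h00 : B.1 0 0 = 1 := by
    have h1 := (hpow (p ^ k)).2
    rw [hB, ← map_pow, hk', map_one] at h1
    change (1 : Matrix (Fin 2) (Fin 2) F) 0 0 = _ at h1
    rw [Matrix.one_apply_eq] at h1
    refine sub_eq_zero.1 (pow_eq_zero_iff (n := p ^ k) (pow_ne_zero _ (Fact.out : p.Prime).ne_zero) |>.1 ?_)
    rw [sub_pow_char_pow, one_pow, hB, ← h1, sub_self]
  have h11 : B.1 1 1 = 1 := by rwa [h00, one_mul] at hdet
  have hBu : B = upper (B.1 0 1) := by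
    apply Subtype.ext; ext i j; fin_cases i <;> fin_cases j <;> simp [upper, h00, h10, h11]
  refine hlA (show (l : Γ) ∈ d.A from ⟨B.1 0 1, congrArg Subtype.val
    (d.bij.1 (a₁ := ⟨d.up (B.1 0 1), d.up_mem_L _⟩) (a₂ := ⟨(l : Γ), l.2.1⟩) ?_)⟩)
  rw [d.ρ_up, ← hB, ← hBu]

theorem T_normalises : (d.T : Subgroup Γ) ≤ Subgroup.normalizer (d.A : Set Γ) := by
  intro t ht
  rw [Subgroup.mem_normalizer_iff]
  intro a
  rw [← d.inter_T, Subgroup.mem_inf, Subgroup.mem_inf,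
    ← Subgroup.mem_normalizer_iff.1 (d.normT ht) a]
  refine and_congr_right fun _ => ⟨fun h => mul_mem (mul_mem ht h) (inv_mem ht), fun h => ?_⟩
  have h2 : t⁻¹ * (t * a * t⁻¹) * t ∈ (d.T : Subgroup Γ) := mul_mem (mul_mem (inv_mem ht) h) ht
  simpa [mul_assoc] using h2

theorem T_le_Me : (d.T : Subgroup Γ) ≤ d.Me := fun _ ht => d.mem_Me_of_normalises (d.T_normalises ht)

theorem R_le_Me : d.R ≤ d.Me := fun r hr m => by
  constructor
  · intro h
    rw [show m = r • m - (r • m - m) by abel]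
    exact sub_mem h (hr.1 m)
  · intro h; rwa [hr.2 m h]

theorem R_le_T : d.R ≤ (d.T : Subgroup Γ) := by
  have h : IsPGroup p ↥((d.T : Subgroup Γ) ⊔ d.R) := d.T.2.to_sup_of_normal_right' d.pR fun t ht => by
    rw [Subgroup.mem_normalizer_iff]
    intro r
    refine ⟨d.conj_mem_R (d.T_le_Me ht), fun h => ?_⟩
    have := d.conj_mem_R (inv_mem (d.T_le_Me ht)) h
    simpa [mul_assoc] using this
  exact le_sup_right.trans (d.T.3 h le_sup_left).le

/-- Only the upper unitriangular elements act like them. -/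
theorem R_eq : d.R = d.A := by
  refine le_antisymm (fun r hr => ?_) ?_
  · set h : F → F := fun y => d.ψ (r • d.pt 0 y) 0 with hh
    have hr0 : ∀ x y, r • d.pt x y = d.pt (x + h y) y := by
      intro x y
      have h1 : d.ψ (r • d.pt 0 y - d.pt 0 y) 1 = 0 := d.mem_fxA.1 (hr.1 _)
      rw [map_sub, Pi.sub_apply, sub_eq_zero, d.ψ_pt] at h1
      rw [show d.pt x y = d.pt x 0 + d.pt 0 y from d.ext_ψ (by simp [d.ψ_pt]) (by simp [d.ψ_pt]), smul_add,
        hr.2 _ (d.pt_mem x)]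
      refine d.ext_ψ ?_ ?_
      · simp [d.ψ_pt, hh]
      · simp [d.ψ_pt, h1]
    -- `r` normalises the lower unitriangular group
    let low : ↥L := Function.surjInv d.bij.2 (lower 1)
    have hlowρ : d.ρ low = lower 1 := Function.surjInv_eq d.bij.2 _
    have hlow : ∀ x y, (low : Γ) • d.pt x y = d.pt x (y + x) := fun x y => d.ψ.injective (by
      rw [d.act, hlowρ, lower_mulVec, d.ψ_pt, d.ψ_pt]; simp)
    have hmem : r * (low : Γ) * r⁻¹ ∈ L := (Subgroup.mem_normalizer_iff.1 (d.normT (d.R_le_T hr)) _).1 low.2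
    have hrinv : ∀ x y, r⁻¹ • d.pt x y = d.pt (x - h y) y := fun x y => by
      rw [inv_smul_eq_iff, hr0, sub_add_cancel]
    set C := d.ρ ⟨_, hmem⟩ with hC
    have hval : ∀ x y, C.1 1 0 * x + C.1 1 1 * y = y + x - h y := by
      intro x y
      have h1 := congrArg (fun v => v 1) (d.act ⟨_, hmem⟩ (d.pt x y))
      simp only [mul_smul, hrinv, hlow, hr0, d.ψ_pt, ← hC] at h1
      simp [Matrix.mulVec, dotProduct, Fin.sum_univ_two] at h1
      linear_combination -h1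
    have hlin : ∀ y, h y = (1 - C.1 1 1) * y := by
      intro y
      have := hval 0 y
      rw [mul_zero, zero_add, add_zero] at this
      rw [sub_mul, one_mul, this]; ring
    refine ⟨1 - C.1 1 1, inv_mul_eq_one.1 (d.faithful _ fun m => ?_)⟩
    rw [mul_smul, inv_smul_eq_iff, ← d.pt_coe m, d.up_pt, hr0, hlin]
  · rintro _ ⟨t, rfl⟩
    exact ⟨fun m => d.mem_fxA.2 (by simp [d.ψ_up]), fun m hm => hm _ ⟨t, rfl⟩⟩

theorem Me_eq : d.Me = Subgroup.normalizer (d.A : Set Γ) := by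
  refine le_antisymm (fun g hg => ?_) fun g hg => d.mem_Me_of_normalises hg
  rw [Subgroup.mem_normalizer_iff, ← d.R_eq]
  intro r
  refine ⟨d.conj_mem_R hg, fun h => ?_⟩
  have := d.conj_mem_R (inv_mem hg) h
  simpa [mul_assoc] using this

theorem Me_ne_top : d.Me ≠ ⊤ := by
  intro e
  let low : ↥L := Function.surjInv d.bij.2 (lower 1)
  have h1 : (low : Γ) • d.pt 1 0 ∈ fx M d.A := ((e ▸ Subgroup.mem_top (low : Γ) : (low : Γ) ∈ d.Me) _).2 (d.pt_mem 1)
  have h2 := d.mem_fxA.1 h1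
  rw [d.act, Function.surjInv_eq d.bij.2, lower_mulVec, d.ψ_pt] at h2
  simp at h2

end Data

end CfsgLib.LocalEven.NatSylow
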