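import Cfsg.Agent.Lib.LocalEven.NatSylow.Main
import Cfsg.Agent.Lib.InvolChar.SmallAut
import Cfsg.Agent.Lib.InvolChar.SubgroupsA8
import Cfsg.Agent.Lib.Cores.Basic
import Cfsg.Agent.Lib.Solvable.Generation
import Cfsg.Agent.Lib.SL2Table.SL2Classes

/-!
The field of four elements: `SL₂(4)` is normal unless the group is `A₇`.
-/

set_option autoImplicit false
set_option linter.unusedSectionVars false

namespace CfsgLib.LocalEven.NatSylow

open CfsgLib.Fusion (conjSub mem_conjSub conj_mem_conjSub)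
open CfsgLib.LocalEven.MinOffender (fx mem_fx_conj)
open Matrix (SpecialLinearGroup)

variable {Γ : Type*} [Group Γ] [Finite Γ] {M : Type*} [AddCommGroup M] [DistribMulAction Γ M] [Finite M]
variable {F : Type*} [Field F] [Finite F] [CharP F 2]

/-- A subgroup of index at most `3` of a simple group of order `360` is the whole group. -/
theorem eq_top_of_index_dvd_three {G : Type*} [Group G] [Finite G] [IsSimpleGroup G] (hG : 6 < Nat.card G)
    {H : Subgroup G} (h : H.index ∣ 3) : H = ⊤ := by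
  rcases (Nat.dvd_prime Nat.prime_three).1 h with h1 | h3
  · exact Subgroup.index_eq_one.1 h1
  exfalso
  rcases Subgroup.Normal.eq_bot_or_eq_top (H := H.normalCore) inferInstance with hb | ht
  · have hinj : Function.Injective (MulAction.toPermHom G (G ⧸ H)) := by
      rw [← MonoidHom.ker_eq_bot_iff, ← Subgroup.normalCore_eq_ker]; exact hb
    have hle := Nat.card_le_card_of_injective _ hinj
    rw [Nat.card_perm, ← Subgroup.index_eq_card, h3] at hle
    norm_num [Nat.factorial] at hle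
    omega
  · rw [(eq_top_iff.2 (ht ▸ H.normalCore_le) : H = ⊤), Subgroup.index_top] at h3
    omega

namespace Data

variable {L : Subgroup Γ} (d : Data 2 L F M)

/-- What centralises `L` acts as a scalar. -/
theorem scalar_of_centralises (d : Data 2 L F M) {n : Γ} (hn : ∀ l ∈ L, n * l = l * n) : ∃ c : F, c ≠ 0 ∧ ∀ x y, n • d.pt x y = d.pt (c * x) (c * y) := by
  have hnorm : n ∈ Subgroup.normalizer (d.A : Set Γ) := by
    rw [Subgroup.mem_normalizer_iff]
    intro a
    constructor
    · intro ha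
      rwa [hn a (d.A_le_L ha), mul_inv_cancel_right]
    · intro ha
      have h2 := hn _ (d.A_le_L ha)
      have h3 : n * a * n⁻¹ = a := by
        have h4 : n * (n * a * n⁻¹) = n * a := by rw [h2]; group
        exact mul_left_cancel h4
      rwa [h3] at ha
  have hMe : n ∈ d.Me := d.mem_Me_of_normalises hnorm
  have hcomm : ∀ t, n * d.up t * n⁻¹ = d.up t := fun t => by rw [hn _ (d.up_mem_L t), mul_inv_cancel_right]
  set g : ↥d.Me := ⟨n, hMe⟩
  have ht := d.tau_eq_one_of_comm (e := g) hcomm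
  set c := d.sig n 1
  have hline : ∀ x, n • d.pt x 0 = d.pt (c * x) 0 := fun x => by
    rw [d.smul_pt_line hMe, show d.sig n x = c * d.tau g x from d.sig_eq g x, show d.tau g = 1 from ht]; rfl
  obtain ⟨w, hw⟩ := d.bij.2 ⟨!![0, -1; 1, 0], by simp [Matrix.det_fin_two]⟩
  have hwpt : ∀ x, (w : Γ) • d.pt x 0 = d.pt 0 x := fun x => d.ψ.injective (by
    rw [d.act, hw, d.ψ_pt, d.ψ_pt]; ext i; fin_cases i <;> simp [Matrix.mulVec, dotProduct, Fin.sum_univ_two])
  refine ⟨c, d.sig_one_ne hMe, fun x y => ?_⟩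
  have hadd : ∀ u v, d.pt u v = d.pt u 0 + d.pt 0 v := fun u v => d.ext_ψ (by simp [d.ψ_pt]) (by simp [d.ψ_pt])
  rw [hadd, smul_add, hline, ← hwpt, ← mul_smul, hn _ w.2, mul_smul, hline, hwpt, ← hadd]

/-- With a nontrivial normal subgroup of odd order, the group preserves the field structure. -/
theorem normal_of_odd (d : Data 2 L F M) (hF : Nat.card F = 4) {N : Subgroup Γ} (hN : N.Normal) (hodd : (Nat.card ↥N).Coprime 2)
    (hne : N ≠ ⊥) : L.Normal := by
  classical
  haveI : Fact (Nat.Prime 2) := ⟨Nat.prime_two⟩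
  have hAL : ∀ l : ↥L, ∀ n ∈ N, ∀ a ∈ d.A, n * ((l : Γ) * a * (l : Γ)⁻¹) = ((l : Γ) * a * (l : Γ)⁻¹) * n := by
    have hcent : ∀ n ∈ N, ∀ a ∈ d.A, n * a = a * n := by
      have hnc : ¬ IsCyclic ↥d.A := by
        intro hc
        obtain ⟨g, hg⟩ := hc.exists_generator
        have h1 : Nat.card ↥d.A = orderOf g := (orderOf_eq_card_of_forall_mem_zpowers hg).symm
        have h2 : orderOf g ∣ 2 := orderOf_dvd_of_pow_eq_one (by
          obtain ⟨s, hs⟩ := d.mem_A.1 g.2
          exact Subtype.ext (by rw [Subgroup.coe_pow, ← hs, d.up_pow_p]; rfl))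
        have h3 := Nat.le_of_dvd two_pos h2
        rw [← h1, d.card_A, hF] at h3
        omega
      have hgen := CfsgLib.Solvable.iSup_centralizer_eq (A := d.A) (K := N) d.A_comm hnc
        (Subgroup.normalizer_eq_top_iff.2 hN ▸ le_top) (by
          rw [d.card_A, hF, show 4 = 2 ^ 2 from rfl]
          exact (Nat.Coprime.pow_right 2 hodd).symm)
      have hle : N ≤ Subgroup.centralizer (d.A : Set Γ) := by
        rw [← hgen]
        refine iSup₂_le fun a ha => ?_
        rintro n ⟨hnN, hna⟩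
        obtain ⟨t, rfl⟩ := d.mem_A.1 ha.1
        have ht : t ≠ 0 := fun e => ha.2 (by rw [e, d.up_zero])
        have hMe : n ∈ d.Me := d.mem_Me_of_maps fun m hm => d.fix_of_ne_zero ht (by
          rw [← mul_smul, (Subgroup.mem_centralizer_singleton_iff.1 hna).symm, mul_smul, hm _ ha.1])
        refine Subgroup.mem_centralizer_iff.2 fun b hb => ?_
        have h1 : n * b * n⁻¹ * b⁻¹ ∈ d.A :=
          mul_mem ((Subgroup.mem_normalizer_iff.1 (d.Me_eq ▸ hMe) _).1 hb) (inv_mem hb)
        have h2 : n * b * n⁻¹ * b⁻¹ ∈ N := by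
          rw [show n * b * n⁻¹ * b⁻¹ = n * (b * n⁻¹ * b⁻¹) by group]
          exact mul_mem hnN (hN.conj_mem _ (inv_mem hnN) b)
        have h3 : Nat.card ↥(d.A ⊓ N) = 1 := by
          refine Nat.eq_one_of_dvd_coprimes (?_ : (Nat.card ↥d.A).Coprime (Nat.card ↥N))
            (Subgroup.card_dvd_of_le inf_le_left) (Subgroup.card_dvd_of_le inf_le_right)
          rw [d.card_A, hF, show 4 = 2 ^ 2 from rfl]
          exact (Nat.Coprime.pow_right 2 hodd).symm
        have h4 : n * b * n⁻¹ * b⁻¹ = 1 := by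
          rw [Subgroup.card_eq_one] at h3
          exact Subgroup.mem_bot.1 (h3 ▸ ⟨h1, h2⟩)
        rw [mul_inv_eq_one, mul_inv_eq_iff_eq_mul] at h4
        exact h4.symm
      exact fun n hn a ha => (Subgroup.mem_centralizer_iff.1 (hle hn) a ha).symm
    intro l n hn a ha
    have h1 := hcent _ (hN.conj_mem n hn (l : Γ)⁻¹) a ha
    calc n * ((l : Γ) * a * (l : Γ)⁻¹) = (l : Γ) * (((l : Γ)⁻¹ * n * (l : Γ)⁻¹⁻¹) * a) * (l : Γ)⁻¹ := by group
      _ = (l : Γ) * (a * ((l : Γ)⁻¹ * n * (l : Γ)⁻¹⁻¹)) * (l : Γ)⁻¹ := by rw [h1]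
      _ = ((l : Γ) * a * (l : Γ)⁻¹) * n := by group
  have hcentL : ∀ n ∈ N, ∀ l ∈ L, n * l = l * n := by
    intro n hn
    suffices h : L ≤ Subgroup.centralizer {n} from fun l hl =>
      (Subgroup.mem_centralizer_singleton_iff.1 (h hl)).symm
    intro l hl
    have h := d.mem_of_upper_conj (N := Subgroup.centralizer {n}) (fun w t =>
      Subgroup.mem_centralizer_singleton_iff.2 (hAL w n hn _ ⟨t, rfl⟩).symm) ⟨l, hl⟩
    exact h
  obtain ⟨n, hn, hn1⟩ : ∃ n ∈ N, n ≠ 1 := by
    by_contra hc; push Not at hc; exact hne ((Subgroup.eq_bot_iff_forall _).2 hc)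
  obtain ⟨c, hc0, hc⟩ := d.scalar_of_centralises (hcentL n hn)
  have hc1 : c ≠ 1 := fun e => hn1 (d.faithful n fun m => by rw [← d.pt_coe m, hc, e, one_mul, one_mul])
  -- the scalars `0, 1, c, c + 1`
  have hfour : ∀ z : F, z = 0 ∨ z = 1 ∨ z = c ∨ z = c + 1 := by
    intro z
    haveI : Fintype F := Fintype.ofFinite F
    have hcard : Fintype.card F = 4 := by rw [← Nat.card_eq_fintype_card, hF]
    have h2 : (2 : F) = 0 := CharTwo.two_eq_zero
    have hs : ({0, 1, c, c + 1} : Finset F) = Finset.univ := by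
      refine Finset.eq_univ_of_card _ ?_
      rw [hcard]
      have e1 : (c + 1 : F) ≠ 0 := fun e => hc1 (by linear_combination e - h2)
      have e2 : (c + 1 : F) ≠ 1 := fun e => hc0 (by linear_combination e)
      have e3 : (c + 1 : F) ≠ c := fun e => one_ne_zero (α := F) (by linear_combination e)
      rw [Finset.card_insert_of_notMem, Finset.card_insert_of_notMem, Finset.card_insert_of_notMem,
        Finset.card_singleton]
      · simpa using e3.symm
      · simp [hc1.symm, e2.symm]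
      · simp [hc0.symm, e1.symm, zero_ne_one]
    have := Finset.mem_univ z
    rw [← hs] at this
    simpa using this
  refine d.normal_of_conj fun y => ?_
  obtain ⟨l, hl⟩ := d.exists_smul_eq (m := y • d.pt 1 0) (fun e => by
    have h1 : d.pt 1 0 = 0 := smul_left_cancel y (e.trans (smul_zero y).symm)
    simpa [d.ψ_pt] using congrArg (fun v => d.ψ v 0) h1)
  refine d.conjSub_le_of_mem (l := l) ?_
  set z := (l : Γ)⁻¹ * y with hz
  have hz1 : z • d.pt 1 0 = d.pt 1 0 := by rw [hz, mul_smul, ← hl, inv_smul_smul]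
  obtain ⟨c', -, hc'⟩ := d.scalar_of_centralises (hcentL _ (hN.conj_mem n hn z))
  have hzc : z • d.pt c 0 = d.pt c' 0 := by
    have h1 := hc' 1 0
    rw [mul_one, mul_zero, mul_smul, mul_smul, show z⁻¹ • d.pt 1 0 = d.pt 1 0 by rw [inv_smul_eq_iff, hz1],
      hc, mul_one, mul_zero] at h1
    exact h1
  have hc10 : z • d.pt (c + 1) 0 = d.pt (c' + 1) 0 := by
    rw [show d.pt (c + 1) 0 = d.pt c 0 + d.pt 1 0 from d.ext_ψ (by simp [d.ψ_pt]) (by simp [d.ψ_pt]), smul_add,
      hzc, hz1]
    exact d.ext_ψ (by simp [d.ψ_pt]) (by simp [d.ψ_pt])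
  refine d.mem_Me_of_maps fun m hm => d.mem_fxA.2 ?_
  rw [← d.pt_coe m, d.mem_fxA.1 hm]
  rcases hfour (d.ψ m 0) with e | e | e | e <;> rw [e]
  · simp [d.pt_zero, smul_zero]
  · rw [hz1]; simp [d.ψ_pt]
  · rw [hzc]; simp [d.ψ_pt]
  · rw [hc10]; simp [d.ψ_pt]

/-- The Sylow subgroup has at most `8` elements. -/
theorem card_T_le (d : Data 2 L F M) (hF : Nat.card F = 4) : Nat.card ↥(d.T : Subgroup Γ) ≤ 8 := by
  haveI : Fact (Nat.Prime 2) := ⟨Nat.prime_two⟩
  let φ : ↥(d.T : Subgroup Γ) →* (F ≃+* F) := d.tauHom.comp (Subgroup.inclusion d.T_le_Me)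
  have hF' : Nat.card F = 2 ^ 2 := by rw [hF]; rfl
  haveI : Finite (F ≃+* F) := Finite.of_injective (fun e => (e : F → F)) DFunLike.coe_injective
  have hr : Nat.card ↥φ.range ≤ 2 := by
    refine card_le_of_ringAut (P := ↥φ.range) (fun x => Subtype.ext ?_) φ.range.subtype φ.range.subtype_injective
    rw [Subgroup.coe_pow, Subgroup.coe_one]
    exact pow_two_of_card_sq hF' _
  have hk : Nat.card ↥φ.ker ≤ 4 := by
    rw [← hF, ← d.card_A, ← d.R_eq]
    refine Nat.card_le_card_of_injective (fun w : ↥φ.ker => (⟨((w : ↥(d.T : Subgroup Γ)) : Γ), ?_⟩ : ↥d.R))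
      (fun a b e => Subtype.ext (Subtype.ext (congrArg (fun u : ↥d.R => (u : Γ)) e)))
    obtain ⟨k, hk⟩ := d.T.2 (w : ↥(d.T : Subgroup Γ))
    exact d.mem_R_of_tau (g := Subgroup.inclusion d.T_le_Me (w : ↥(d.T : Subgroup Γ))) (k := k)
      (by simpa using congrArg Subtype.val hk) w.2
  rw [Subgroup.card_eq_card_quotient_mul_card_subgroup φ.ker,
    Nat.card_congr (QuotientGroup.quotientKerEquivRange φ).toEquiv]
  calc Nat.card ↥φ.range * Nat.card ↥φ.ker ≤ 2 * 4 := Nat.mul_le_mul hr hk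
    _ = 8 := rfl

/-- The exception. -/
theorem normal_or_alt_seven (d : Data 2 L F M) (hF : Nat.card F = 4) :
    L.Normal ∨ Nonempty (Γ ≃* ↥(alternatingGroup (Fin 7))) := by
  classical
  haveI : Fact (Nat.Prime 2) := ⟨Nat.prime_two⟩
  haveI : Fintype F := Fintype.ofFinite F
  by_cases hO : Cfsg.pPrimeCore 2 Γ = ⊥
  swap
  · exact Or.inl (d.normal_of_odd hF inferInstance (CfsgLib.Cores.coprime_card_pPrimeCore 2) hO)
  have hL : Nat.card ↥L = 60 := by
    rw [Nat.card_congr (Equiv.ofBijective d.ρ d.bij), CfsgLib.SL2Table.card_sl_two,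
      show Fintype.card F = 4 by rw [← Nat.card_eq_fintype_card, hF]]
    norm_num
  have hO2 : Cfsg.pCore 2 Γ = ⊥ := by
    set E := Cfsg.pCore 2 Γ with hE
    have hEp : IsPGroup 2 ↥E := CfsgLib.Cores.isPGroup_pCore 2
    obtain ⟨v, hv, hv0⟩ : ∃ v ∈ fx M E, v ≠ 0 := by
      have hd : 2 ∣ Nat.card M := by rw [d.card_M, hF]; norm_num
      obtain ⟨v, hv, hv0⟩ := hEp.exists_fixed_point_of_prime_dvd_card_of_fixed_point M hd
        (a := (0 : M)) (fun g => smul_zero (g : Γ))
      exact ⟨v, fun g hg => hv ⟨g, hg⟩, hv0.symm⟩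
    have hall : ∀ m : M, m ∈ fx M E := by
      intro m
      by_cases hm : m = 0
      · exact hm ▸ zero_mem _
      obtain ⟨l₁, h₁⟩ := d.exists_smul_eq hv0
      obtain ⟨l₂, h₂⟩ := d.exists_smul_eq hm
      intro e he
      have hme : ((l₂ : Γ) * (l₁ : Γ)⁻¹)⁻¹ * e * ((l₂ : Γ) * (l₁ : Γ)⁻¹) ∈ E := by
        have h3 := (inferInstance : E.Normal).conj_mem e he ((l₂ : Γ) * (l₁ : Γ)⁻¹)⁻¹
        rwa [inv_inv] at h3
      have hg : ((l₂ : Γ) * (l₁ : Γ)⁻¹) • v = m := by rw [mul_smul, ← h₁, inv_smul_smul, h₂]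
      have h4 := congrArg (((l₂ : Γ) * (l₁ : Γ)⁻¹) • ·) (hv _ hme)
      simp only [← mul_smul] at h4
      rw [hg, mul_smul, mul_smul] at h4
      simpa [hg, mul_assoc, mul_smul] using h4
    exact (Subgroup.eq_bot_iff_forall _).2 fun e he => d.faithful e fun m => hall m e he
  haveI : Nontrivial Γ := by
    refine ⟨⟨d.up 1, 1, fun e => one_ne_zero (α := F) (d.up_injective (e.trans d.up_zero.symm))⟩⟩
  -- the embedding into `A₈`
  obtain ⟨φ₈, hφ₈⟩ := CfsgLib.A8.exists_aut_hom (V := Multiplicative M)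
    (fun v => Multiplicative.toAdd.injective (by rw [toAdd_pow, toAdd_one]; exact d.exp _))
    (by rw [Nat.card_congr Multiplicative.toAdd, d.card_M, hF]; norm_num)
  let act : Γ →* MulAut (Multiplicative M) :=
    { toFun := fun g => AddEquiv.toMultiplicative (DistribMulAction.toAddEquiv M g)
      map_one' := MulEquiv.ext fun v => congrArg Multiplicative.ofAdd (one_smul Γ v.toAdd)
      map_mul' := fun g h => MulEquiv.ext fun v => congrArg Multiplicative.ofAdd (mul_smul g h v.toAdd) }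
  have hact : Function.Injective act := (injective_iff_map_eq_one act).2 fun g hg =>
    d.faithful g fun m => congrArg Multiplicative.toAdd (MulEquiv.congr_fun hg (Multiplicative.ofAdd m))
  set θ := φ₈.comp act with hθ
  have hθi : Function.Injective θ := hφ₈.comp hact
  let φ : Γ →* Equiv.Perm (Fin 8) := (alternatingGroup (Fin 8)).subtype.comp θ
  have hclass := CfsgLib.InvolChar.SubgroupsA8.classify φ
    ((alternatingGroup (Fin 8)).subtype_injective.comp hθi)
    (fun h => Equiv.Perm.mem_alternatingGroup.1 (θ h).2) hO2 hO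
  have hdvd : Nat.card ↥L ∣ Nat.card Γ := Subgroup.card_subgroup_dvd_card L
  have hT8 := d.card_T_le hF
  have hTcard := d.T.card_eq_multiplicity
  have hidx : ∀ {m : ℕ}, Nat.card Γ = 60 * m → L.index = m := fun {m} h => by
    have h1 := L.card_mul_index
    rw [hL, h] at h1
    omega
  rcases hclass with ⟨n, h5, h8, ⟨e⟩⟩ | ⟨⟨e⟩⟩ | ⟨⟨e⟩⟩ | ⟨⟨e⟩⟩
  · have hc : Nat.card Γ = Nat.card ↥(alternatingGroup (Fin n)) := Nat.card_congr e.toEquiv
    haveI : Nontrivial (Fin n) := Fin.nontrivial_iff_two_le.2 (by omega)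
    rw [nat_card_alternatingGroup, Nat.card_fin] at hc
    interval_cases n
    · left
      have h1 : L = ⊤ := Subgroup.eq_top_of_card_eq L (by rw [hL, hc]; rfl)
      subst h1; infer_instance
    · left
      norm_num [Nat.factorial] at hc
      -- the normaliser is too large
      haveI : IsSimpleGroup ↥(alternatingGroup (Fin 6)) := alternatingGroup.isSimpleGroup (by simp)
      haveI : IsSimpleGroup Γ := IsSimpleGroup.isSimpleGroup_of_surjective e.symm.toMonoidHom e.symm.surjective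
      have h360 : Nat.card Γ = 360 := by omega
      set N := Subgroup.normalizer (L : Set Γ) with hN
      have hT : Nat.card ↥(d.T : Subgroup Γ) = 8 := by
        rw [hTcard, h360, show 360 = 2 ^ 3 * 45 from rfl, Nat.factorization_mul (by norm_num) (by norm_num),
          Nat.factorization_pow]
        simp [Nat.prime_two.factorization_self, Nat.factorization_eq_zero_of_not_dvd (by norm_num : ¬ 2 ∣ 45)]
      have hd1 : 8 ∣ Nat.card ↥N := hT ▸ Subgroup.card_dvd_of_le d.normT
      have hd2 : 60 ∣ Nat.card ↥N := hL ▸ Subgroup.card_dvd_of_le Subgroup.le_normalizer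
      have h120 : 120 ∣ Nat.card ↥N := Nat.lcm_dvd hd1 hd2
      obtain ⟨k, hk⟩ := h120
      have h3 : N.index ∣ 3 := ⟨k, by
        have h1 := N.card_mul_index
        rw [hk, h360] at h1
        linarith⟩
      exact Subgroup.normalizer_eq_top_iff.1 (eq_top_of_index_dvd_three (by omega) h3)
    · exact Or.inr ⟨e⟩
    · exfalso
      norm_num [Nat.factorial] at hc
      have h64 : Nat.card ↥(d.T : Subgroup Γ) = 64 := by
        rw [hTcard, show Nat.card Γ = 2 ^ 6 * 315 by omega, Nat.factorization_mul (by norm_num) (by norm_num),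
          Nat.factorization_pow]
        simp [Nat.prime_two.factorization_self, Nat.factorization_eq_zero_of_not_dvd (by norm_num : ¬ 2 ∣ 315)]
      omega
  · left
    refine Subgroup.normal_of_index_eq_two (hidx ?_)
    rw [Nat.card_congr e.toEquiv, Nat.card_perm, Nat.card_fin]; rfl
  · exfalso
    have hc : Nat.card Γ = 720 := by rw [Nat.card_congr e.toEquiv, Nat.card_perm, Nat.card_fin]; rfl
    have h16 : Nat.card ↥(d.T : Subgroup Γ) = 16 := by
      rw [hTcard, hc, show 720 = 2 ^ 4 * 45 from rfl, Nat.factorization_mul (by norm_num) (by norm_num),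
        Nat.factorization_pow]
      simp [Nat.prime_two.factorization_self, Nat.factorization_eq_zero_of_not_dvd (by norm_num : ¬ 2 ∣ 45)]
    omega
  · exfalso
    rw [hL, Nat.card_congr e.toEquiv, CfsgLib.InvolChar.SubgroupsA8.gl3_card] at hdvd
    norm_num at hdvd

end Data

end CfsgLib.LocalEven.NatSylow
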