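import Cfsg.Agent.Lib.LocalEven.NatSylow.Semilinear
import Cfsg.Agent.Lib.LocalEven.StrongFF.Lines

/-!
Outside the exception of four elements, `SL₂` on its natural module with a full Sylow normaliser is normal.
-/

set_option autoImplicit false
set_option linter.unusedSectionVars false

namespace CfsgLib.LocalEven.NatSylow

open CfsgLib.Fusion (conjSub mem_conjSub conj_mem_conjSub)
open CfsgLib.LocalEven.MinOffender (fx)
open CfsgLib.LocalEven.FaithfulBound (upper lower upper00 upper01 upper10 upper11 lower00 lower01 lower10 lower11)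
open Matrix (SpecialLinearGroup)

variable {Γ : Type*} [Group Γ] [Finite Γ] {M : Type*} [AddCommGroup M] [DistribMulAction Γ M] [Finite M]
variable {F : Type*} [Field F] [Finite F] {p : ℕ} [Fact p.Prime] [CharP F p]

namespace Data

variable {L : Subgroup Γ} (d : Data p L F M)

/-- An element commuting with the upper unitriangular group has no field part. -/
theorem tau_eq_one_of_comm {e : ↥d.Me} (he : ∀ t, (e : Γ) * d.up t * (e : Γ)⁻¹ = d.up t) : d.tauHom e = 1 := by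
  refine RingEquiv.ext fun z => ?_
  show d.tau e z = z
  have h1 := d.sig_mul e.2 (he z) 1
  have h2 := d.sig_mul e.2 (he 1) 1
  rw [mul_one] at h1
  rw [one_mul, one_mul] at h2
  rw [d.tau_apply, h1, h2, mul_div_assoc, div_self (h2 ▸ d.sig_one_ne e.2), mul_one]

/-- A `p`-group over the upper unitriangular group normalises it. -/
theorem le_Me_of_pgroup (hexc : ¬ (p = 2 ∧ Nat.card F = 4)) {P : Subgroup Γ} (hP : IsPGroup p ↥P)
    (hAP : d.A ≤ P) : P ≤ d.Me := by
  by_contra hle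
  set N := P ⊓ d.Me
  haveI : Group.IsNilpotent ↥P := hP.isNilpotent
  have hNP : N ≤ P := inf_le_left
  have hlt : N.subgroupOf P < ⊤ := lt_top_iff_ne_top.2 fun e => hle fun g hg => by
    have h : (⟨g, hg⟩ : ↥P) ∈ N.subgroupOf P := e.symm ▸ Subgroup.mem_top _
    exact (Subgroup.mem_subgroupOf.1 h).2
  obtain ⟨g, hg, hgN⟩ := SetLike.exists_of_lt (normalizerCondition_of_isNilpotent (G := ↥P) _ hlt)
  have hgMe : (g : Γ) ∉ d.Me := fun h => hgN ⟨g.2, h⟩
  obtain ⟨a, ha, ha1⟩ : ∃ a ∈ d.A, a ≠ 1 := by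
    by_contra hc
    push Not at hc
    exact d.A_ne_bot ((Subgroup.eq_bot_iff_forall _).2 hc)
  have h1 : g * (⟨a, hAP ha⟩ : ↥P) * g⁻¹ ∈ N.subgroupOf P :=
    (Subgroup.mem_normalizer_iff.1 hg _).1 ⟨hAP ha, d.A_le_Me ha⟩
  exact ha1 (d.outside hexc hgMe ha h1.2)

theorem setup (hexc : ¬ (p = 2 ∧ Nat.card F = 4)) : StrongFF.Setup p d.Me d.A M :=
  { exp := d.exp
    faithful := d.faithful
    proper := d.Me_ne_top
    aLe := d.A_le_Me
    ne := d.A_ne_bot
    pA := d.pA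
    aComm := d.A_comm
    off := by rw [d.card_A, d.card_fxA, d.card_M]
    quad := fun {a b} ha hb v => d.quad ha hb v
    outside := fun {x a} hx ha h => d.outside hexc hx ha h
    noPGroup := by
      intro K hK E hn hp
      set E' := E.map K.subtype with hE'
      have hnorm : d.A ≤ Subgroup.normalizer (E' : Set Γ) := by
        refine hK.aLe.trans ?_
        have := Subgroup.le_normalizer_map (H := E) K.subtype
        rwa [Subgroup.normalizer_eq_top_iff.2 hn, ← MonoidHom.range_eq_map, Subgroup.range_subtype] at this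
      have hle : d.A ⊔ E' ≤ d.Me :=
        d.le_Me_of_pgroup hexc (d.pA.to_sup_of_normal_right' (hp.map _) hnorm) le_sup_left
      obtain ⟨x, hxK, hx⟩ := SetLike.not_le_iff_exists.1 hK.notLe
      have hinf : ∀ a ∈ d.A, a ∈ E' → a = 1 := by
        intro a ha haE
        obtain ⟨e, he, hea⟩ := haE
        exact d.outside hexc hx ha (hle (Subgroup.mem_sup_right
          ⟨⟨x, hxK⟩ * e * ⟨x, hxK⟩⁻¹, hn.conj_mem e he ⟨x, hxK⟩, by simp [← hea]⟩))
      rw [Subgroup.eq_bot_iff_forall]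
      intro e he
      have he' : (e : Γ) ∈ E' := ⟨e, he, rfl⟩
      have heMe : (e : Γ) ∈ d.Me := hle (Subgroup.mem_sup_right he')
      have hcomm : ∀ t, (e : Γ) * d.up t * (e : Γ)⁻¹ = d.up t := by
        intro t
        have hA : d.up t ∈ d.A := ⟨t, rfl⟩
        have h1 : (e : Γ) * d.up t * (e : Γ)⁻¹ * (d.up t)⁻¹ ∈ d.A := mul_mem
          ((Subgroup.mem_normalizer_iff.1 (d.Me_eq ▸ heMe) _).1 hA) (inv_mem hA)
        refine mul_inv_eq_one.1 (hinf _ h1 ?_)
        rw [show (e : Γ) * d.up t * (e : Γ)⁻¹ * (d.up t)⁻¹ = (e : Γ) * (d.up t * (e : Γ)⁻¹ * (d.up t)⁻¹) by group]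
        exact mul_mem he' ((Subgroup.mem_normalizer_iff.1 (hnorm hA) _).1 (inv_mem he'))
      obtain ⟨k, hk⟩ := hp ⟨e, he⟩
      have hk' : ((⟨(e : Γ), heMe⟩ : ↥d.Me) : Γ) ^ p ^ k = 1 := by
        simpa using congrArg (fun z : ↥E => ((z : ↥K) : Γ)) hk
      have h1 := d.mem_R_of_tau hk' (d.tau_eq_one_of_comm (e := ⟨(e : Γ), heMe⟩) hcomm)
      rw [d.R_eq] at h1
      exact Subtype.ext (hinf _ h1 he') }

/-- `SL₂` moves every nonzero vector to every other. -/
theorem exists_smul_eq {m : M} (hm : m ≠ 0) : ∃ l : ↥L, (l : Γ) • d.pt 1 0 = m := by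
  set x := d.ψ m 0 with hx
  set y := d.ψ m 1 with hy
  obtain ⟨B, h0, h1⟩ : ∃ B : SpecialLinearGroup (Fin 2) F, B.1 0 0 = x ∧ B.1 1 0 = y := by
    by_cases hx0 : x = 0
    · have hy0 : y ≠ 0 := fun e => hm (by rw [← d.pt_coe m, ← hx, ← hy, hx0, e, d.pt_zero])
      exact ⟨⟨!![0, -y⁻¹; y, 0], by simp [Matrix.det_fin_two, hy0]⟩, hx0.symm, rfl⟩
    · exact ⟨⟨!![x, 0; y, x⁻¹], by simp [Matrix.det_fin_two, hx0]⟩, rfl, rfl⟩
  obtain ⟨l, hl⟩ := d.bij.2 B
  refine ⟨l, d.ext_ψ ?_ ?_⟩ <;>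
    simp [d.act, hl, d.ψ_pt, Matrix.mulVec, dotProduct, Fin.sum_univ_two, h0, h1, ← hx, ← hy]

/-- A translate into the stabiliser of the line gives a conjugate inside `L`. -/
theorem conjSub_le_of_mem {l : ↥L} {y : Γ} (h : (l : Γ)⁻¹ * y ∈ d.Me) : conjSub y d.A ≤ L := by
  rintro _ ⟨a, ha, rfl⟩
  have h1 : ((l : Γ)⁻¹ * y) * a * ((l : Γ)⁻¹ * y)⁻¹ ∈ d.A := (Subgroup.mem_normalizer_iff.1 (d.Me_eq ▸ h) _).1 ha
  have h2 := mul_mem (mul_mem l.2 (d.A_le_L h1)) (inv_mem l.2)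
  simpa [mul_assoc] using h2

/-- Every conjugate of the upper unitriangular group lies in `L`. -/
theorem conj_A_le (hexc : ¬ (p = 2 ∧ Nat.card F = 4)) (y : Γ) : conjSub y d.A ≤ L := by
  have hne : y • d.pt 1 0 ≠ 0 := fun e => by
    have h1 : d.pt 1 0 = 0 := smul_left_cancel y (e.trans (smul_zero y).symm)
    simpa [d.ψ_pt] using congrArg (fun v => d.ψ v 0) h1
  obtain ⟨l, hl⟩ := d.exists_smul_eq hne
  set z := (l : Γ)⁻¹ * y with hz
  have hzMe : z ∈ d.Me := by
    by_contra hzn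
    set s := d.setup hexc
    obtain ⟨K, hK, hmeet, -⟩ := s.pair hzn
    have hv : d.pt 1 0 ∈ fx M d.A ⊓ StrongFF.line M d.A z := by
      refine ⟨d.pt_mem 1, ?_⟩
      show d.pt 1 0 ∈ StrongFF.line M d.A z
      rw [StrongFF.mem_line, hz, mul_inv_rev, inv_inv, mul_smul, hl, inv_smul_smul]
      exact d.pt_mem 1
    rw [hmeet] at hv
    have hcard : Nat.card ↥(fx M K) = 1 := by
      have h1 := s.card_fix hK
      rw [d.card_A, d.card_fxA] at h1
      exact (Nat.eq_of_mul_eq_mul_left (Nat.card_pos (α := F)) (h1.symm.trans (mul_one _).symm))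
    rw [AddSubgroup.eq_bot_of_card_eq _ hcard, AddSubgroup.mem_bot] at hv
    simpa [d.ψ_pt] using congrArg (fun v => d.ψ v 0) hv
  exact d.conjSub_le_of_mem hzMe

/-- A subgroup with all conjugates of upper unitriangular elements by `L` contains `L`. -/
theorem mem_of_upper_conj {N : Subgroup Γ} (hup : ∀ (w : ↥L) (t : F), (w : Γ) * d.up t * (w : Γ)⁻¹ ∈ N)
    (l : ↥L) : (l : Γ) ∈ N := by
  have htop : (N.subgroupOf L).map d.ρ = ⊤ := by
    refine RankOne.closure_elementary_eq_top (fun t => ?_) (fun t => ?_)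
    · exact ⟨⟨d.up t, d.up_mem_L t⟩, by simpa [Subgroup.mem_subgroupOf] using hup 1 t, d.ρ_up t⟩
    · obtain ⟨w, hw⟩ := d.bij.2 ⟨!![0, -1; 1, 0], by simp [Matrix.det_fin_two]⟩
      refine ⟨w * ⟨d.up (-t), d.up_mem_L _⟩ * w⁻¹, hup w (-t), ?_⟩
      rw [map_mul, map_mul, map_inv, d.ρ_up, hw]
      refine mul_inv_eq_iff_eq_mul.2 ?_
      apply Subtype.ext
      show !![0, -1; 1, 0] * (upper (-t)).1 = (lower t).1 * !![0, -1; 1, 0]
      ext i j
      fin_cases i <;> fin_cases j <;> simp [Matrix.mul_apply, Fin.sum_univ_two, upper, lower]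
  obtain ⟨l', hl', e⟩ := (htop ▸ Subgroup.mem_top (d.ρ l) : d.ρ l ∈ (N.subgroupOf L).map d.ρ)
  rw [d.bij.1 e] at hl'
  exact hl'

/-- If `L` holds all conjugates of its upper unitriangular group, it is normal. -/
theorem normal_of_conj (hconj : ∀ y, conjSub y d.A ≤ L) : L.Normal := by
  refine ⟨fun l hl g => ?_⟩
  exact d.mem_of_upper_conj (N := L.comap (MulAut.conj g).toMonoidHom) (fun w t => by
    show g * ((w : Γ) * d.up t * (w : Γ)⁻¹) * g⁻¹ ∈ L
    have h1 := hconj (g * (w : Γ)) (conj_mem_conjSub (g := g * (w : Γ)) (⟨t, rfl⟩ : d.up t ∈ d.A))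
    simpa [mul_assoc] using h1) ⟨l, hl⟩

/-- The main theorem. -/
theorem normal (d : Data p L F M) (hexc : ¬ (p = 2 ∧ Nat.card F = 4)) : L.Normal :=
  d.normal_of_conj (d.conj_A_le hexc)

end Data

end CfsgLib.LocalEven.NatSylow
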