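import Cfsg.Agent.Lib.LocalEven.NatSylow.Basic

/-!
The stabiliser of the line acts semilinearly, so outside conjugates of upper unitriangular elements avoid it.
-/

set_option autoImplicit false
set_option linter.unusedSectionVars false

namespace CfsgLib.LocalEven.NatSylow

open CfsgLib.LocalEven.MinOffender (fx)

variable {Γ : Type*} [Group Γ] [Finite Γ] {M : Type*} [AddCommGroup M] [DistribMulAction Γ M] [Finite M]
variable {F : Type*} [Field F] [Finite F] {p : ℕ} [Fact p.Prime] [CharP F p]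

/-- An elementary abelian group of field automorphisms has order at most `p`. -/
theorem card_le_of_ringAut {P : Type*} [Group P] [Finite P] (hP : ∀ x : P, x ^ p = 1) (φ : P →* (F ≃+* F))
    (hφ : Function.Injective φ) : Nat.card P ≤ p := by
  classical
  letI : Algebra (ZMod p) F := ZMod.algebra F p
  let ι : (F ≃+* F) → (F ≃ₐ[ZMod p] F) := fun e => AlgEquiv.ofRingEquiv (f := e) fun z =>
    RingHom.congr_fun (RingHom.ext_zmod (e.toRingHom.comp (algebraMap (ZMod p) F)) (algebraMap (ZMod p) F)) z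
  have hι : Function.Injective ι := fun a b e => RingEquiv.ext fun z => AlgEquiv.congr_fun e z
  have hmul : ∀ a b, ι (a * b) = ι a * ι b := fun a b => AlgEquiv.ext fun z => rfl
  let ψ : P →* (F ≃ₐ[ZMod p] F) :=
    { toFun := fun x => ι (φ x)
      map_one' := by rw [map_one]; exact AlgEquiv.ext fun z => rfl
      map_mul' := fun a b => by rw [map_mul, hmul] }
  haveI : Fintype (F ≃ₐ[ZMod p] F) := Fintype.ofFinite _
  have h := IsCyclic.card_pow_eq_one_le (α := F ≃ₐ[ZMod p] F) (Fact.out : p.Prime).pos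
  calc Nat.card P ≤ Nat.card {x : F ≃ₐ[ZMod p] F // x ^ p = 1} :=
        Nat.card_le_card_of_injective (fun x => ⟨ψ x, by rw [← map_pow, hP, map_one]⟩)
          (fun a b e => hφ (hι (congrArg Subtype.val e)))
    _ ≤ p := by rwa [Nat.card_eq_fintype_card, Fintype.card_subtype]

theorem eq_one_of_card_eq (h : Nat.card F = p) (e : F ≃+* F) : e = 1 := by
  letI : Algebra (ZMod p) F := ZMod.algebra F p
  have hb : Function.Bijective (algebraMap (ZMod p) F) :=
    (Nat.bijective_iff_injective_and_card _).2 ⟨(algebraMap (ZMod p) F).injective, by rw [Nat.card_zmod, h]⟩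
  refine RingEquiv.ext fun z => ?_
  obtain ⟨k, rfl⟩ := hb.2 z
  exact RingHom.congr_fun (RingHom.ext_zmod (e.toRingHom.comp (algebraMap (ZMod p) F)) (algebraMap (ZMod p) F)) k

theorem pow_two_of_card_sq (h : Nat.card F = p ^ 2) (e : F ≃+* F) : e ^ 2 = 1 := by
  letI : Algebra (ZMod p) F := ZMod.algebra F p
  let a : F ≃ₐ[ZMod p] F := AlgEquiv.ofRingEquiv (f := e) fun z =>
    RingHom.congr_fun (RingHom.ext_zmod (e.toRingHom.comp (algebraMap (ZMod p) F)) (algebraMap (ZMod p) F)) z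
  have hd : Module.finrank (ZMod p) F = 2 := by
    have h1 := Module.natCard_eq_pow_finrank (K := ZMod p) (V := F)
    rw [Nat.card_zmod, h] at h1
    exact (Nat.pow_right_injective (Fact.out : p.Prime).two_le h1).symm
  have hc : Nat.card (F ≃ₐ[ZMod p] F) = 2 := by rw [IsGalois.card_aut_eq_finrank, hd]
  have h2 : a ^ 2 = 1 := hc ▸ pow_card_eq_one'
  refine RingEquiv.ext fun z => ?_
  have h3 := AlgEquiv.congr_fun h2 z
  rw [pow_two] at h3 ⊢
  exact h3

namespace Data

variable {L : Subgroup Γ} (d : Data p L F M)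

/-- The map induced on the line. -/
def sig (g : Γ) (x : F) : F := d.ψ (g • d.pt x 0) 0

/-- The map induced modulo the line. -/
def bet (g : Γ) (y : F) : F := d.ψ (g • d.pt 0 y) 1

theorem smul_pt_line {g : Γ} (hg : g ∈ d.Me) (x : F) : g • d.pt x 0 = d.pt (d.sig g x) 0 := by
  refine d.ext_ψ ?_ ?_
  · simp [sig, d.ψ_pt]
  · rw [d.mem_fxA.1 ((hg _).2 (d.pt_mem x)), d.ψ_pt]; rfl

theorem sig_add (g : Γ) (x y : F) : d.sig g (x + y) = d.sig g x + d.sig g y := by
  rw [sig, sig, sig, show d.pt (x + y) 0 = d.pt x 0 + d.pt y 0 from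
    d.ext_ψ (by simp [d.ψ_pt]) (by simp [d.ψ_pt]), smul_add, map_add, Pi.add_apply]

theorem sig_zero (g : Γ) : d.sig g 0 = 0 := by rw [sig, d.pt_zero, smul_zero, map_zero]; rfl

theorem sig_sig {g h : Γ} (hh : h ∈ d.Me) (x : F) : d.sig (g * h) x = d.sig g (d.sig h x) := by
  rw [sig, sig, mul_smul, d.smul_pt_line hh, sig]

theorem sig_injective {g : Γ} (hg : g ∈ d.Me) : Function.Injective (d.sig g) := fun x y e => by
  have h := smul_left_cancel g (((d.smul_pt_line hg x).trans (by rw [e])).trans (d.smul_pt_line hg y).symm)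
  simpa [d.ψ_pt] using congrArg (fun v => d.ψ v 0) h

theorem sig_one_ne {g : Γ} (hg : g ∈ d.Me) : d.sig g 1 ≠ 0 := fun e =>
  one_ne_zero (d.sig_injective hg (e.trans (d.sig_zero g).symm))

theorem conj_up {g : Γ} (hg : g ∈ d.Me) (t : F) : ∃ s, g * d.up t * g⁻¹ = d.up s := by
  have h : g * d.up t * g⁻¹ ∈ d.A := (Subgroup.mem_normalizer_iff.1 (d.Me_eq ▸ hg) _).1 ⟨t, rfl⟩
  obtain ⟨s, hs⟩ := d.mem_A.1 h
  exact ⟨s, hs.symm⟩

/-- Semilinearity. -/
theorem sig_mul {g : Γ} (hg : g ∈ d.Me) {t s : F} (h : g * d.up t * g⁻¹ = d.up s) (y : F) :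
    d.sig g (t * y) = s * d.bet g y := by
  have e : d.up t • d.pt 0 y = d.pt (t * y) 0 + d.pt 0 y := by
    rw [d.up_pt]; exact d.ext_ψ (by simp [d.ψ_pt]) (by simp [d.ψ_pt])
  have h1 : g • d.pt (t * y) 0 = d.up s • g • d.pt 0 y - g • d.pt 0 y := by
    rw [← h, ← mul_smul (g * d.up t * g⁻¹), inv_mul_cancel_right, mul_smul, e, smul_add, add_sub_cancel_right]
  rw [sig, h1, bet, map_sub, Pi.sub_apply, d.ψ_up]
  simp

theorem sig_mul_one {g : Γ} (hg : g ∈ d.Me) (x y : F) :
    d.sig g (x * y) * d.sig g 1 = d.sig g x * d.sig g y := by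
  obtain ⟨s, hs⟩ := d.conj_up hg x
  obtain ⟨u, hu⟩ := d.conj_up hg 1
  have h1 := d.sig_mul hg hs y
  have h2 := d.sig_mul hg hs 1
  have h3 := d.sig_mul hg hu y
  have h4 := d.sig_mul hg hu 1
  rw [mul_one] at h2
  rw [one_mul] at h3
  rw [one_mul] at h4
  rw [h1, h2, h3, h4]; ring

/-- The field automorphism induced. -/
noncomputable def tau (g : ↥d.Me) : F ≃+* F :=
  RingEquiv.ofBijective
    ({ toFun := fun x => d.sig g x / d.sig g 1
       map_one' := div_self (d.sig_one_ne g.2)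
       map_zero' := by rw [d.sig_zero, zero_div]
       map_add' := fun x y => by rw [d.sig_add, add_div]
       map_mul' := fun x y => by
         rw [div_mul_div_comm, ← d.sig_mul_one g.2]
         field_simp [d.sig_one_ne g.2] } : F →+* F)
    (Finite.injective_iff_bijective.1 fun x y e => d.sig_injective g.2 (by
      have e' : d.sig g x / d.sig g 1 = d.sig g y / d.sig g 1 := e
      rwa [div_left_inj' (d.sig_one_ne g.2)] at e'))

theorem tau_apply (g : ↥d.Me) (x : F) : d.tau g x = d.sig g x / d.sig g 1 := rfl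

theorem sig_eq (g : ↥d.Me) (x : F) : d.sig g x = d.sig g 1 * d.tau g x := by
  rw [d.tau_apply, mul_div_cancel₀ _ (d.sig_one_ne g.2)]

/-- The automorphism as a homomorphism. -/
noncomputable def tauHom : ↥d.Me →* (F ≃+* F) :=
  MonoidHom.mk' d.tau fun g h => RingEquiv.ext fun x => by
    show d.tau (g * h) x = d.tau g (d.tau h x)
    rw [d.tau_apply (g * h), d.tau_apply h, map_div₀, Subgroup.coe_mul, d.sig_sig h.2, d.sig_sig h.2,
      d.sig_eq g (d.sig h x), d.sig_eq g (d.sig h 1), mul_div_mul_left _ _ (d.sig_one_ne g.2)]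

/-- An element of `p`-power order without field part is upper unitriangular. -/
theorem mem_R_of_tau {g : ↥d.Me} {k : ℕ} (hk : (g : Γ) ^ p ^ k = 1) (ht : d.tauHom g = 1) : (g : Γ) ∈ d.R := by
  set c := d.sig g 1 with hc
  have hsig : ∀ x, d.sig g x = c * x := fun x => by
    rw [d.sig_eq g x, show d.tau g = 1 from ht]; rfl
  obtain ⟨u, hu⟩ := d.conj_up g.2 1
  have hbet : ∀ y, d.bet g y = d.bet g 1 * y := fun y => by
    have h1 := d.sig_mul g.2 hu y
    have h2 := d.sig_mul g.2 hu 1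
    rw [one_mul, hsig] at h1 h2
    rw [mul_one] at h2
    have hu0 : u ≠ 0 := fun e => d.sig_one_ne g.2 (by rw [← hc, h2, e, zero_mul])
    exact mul_left_cancel₀ hu0 (by rw [← h1, h2]; ring)
  have hline : ∀ (n : ℕ) (x : F), (g : Γ) ^ n • d.pt x 0 = d.pt (c ^ n * x) 0 := by
    intro n
    induction n with
    | zero => simp
    | succ n ih =>
      intro x
      rw [pow_succ', mul_smul, ih, d.smul_pt_line g.2, hsig, pow_succ]; ring_nf
  set e := d.bet g 1 with he
  have hsnd : ∀ m, d.ψ ((g : Γ) • m) 1 = e * d.ψ m 1 := by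
    intro m
    conv_lhs => rw [← d.pt_coe m, show d.pt (d.ψ m 0) (d.ψ m 1) = d.pt (d.ψ m 0) 0 + d.pt 0 (d.ψ m 1) from
      d.ext_ψ (by simp [d.ψ_pt]) (by simp [d.ψ_pt]), smul_add, map_add, Pi.add_apply, d.smul_pt_line g.2]
    rw [d.ψ_pt]
    show _ + d.bet g (d.ψ m 1) = _
    rw [hbet]; simp
  have hquot : ∀ (n : ℕ) (m : M), d.ψ ((g : Γ) ^ n • m) 1 = e ^ n * d.ψ m 1 := by
    intro n
    induction n with
    | zero => simp
    | succ n ih =>
      intro m
      rw [pow_succ', mul_smul, hsnd, ih, pow_succ]; ring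
  have hroot : ∀ z : F, z ^ p ^ k = 1 → z = 1 := fun z hz => by
    refine sub_eq_zero.1 (pow_eq_zero_iff (n := p ^ k) (pow_ne_zero _ (Fact.out : p.Prime).ne_zero) |>.1 ?_)
    rw [sub_pow_char_pow, one_pow, hz, sub_self]
  have hc1 : c = 1 := hroot c (by
    have h1 := congrArg (fun v => d.ψ v 0) (hline (p ^ k) 1)
    rw [hk, one_smul] at h1
    simpa [d.ψ_pt] using h1.symm)
  have he1 : e = 1 := hroot e (by
    have h1 := hquot (p ^ k) (d.pt 0 1)
    rw [hk, one_smul] at h1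
    simpa [d.ψ_pt] using h1.symm)
  refine ⟨fun m => d.mem_fxA.2 (by rw [map_sub, Pi.sub_apply, hsnd, he1, one_mul, sub_self]), fun m hm => ?_⟩
  rw [← d.pt_coe m, d.mem_fxA.1 hm, d.smul_pt_line g.2, hsig, hc1, one_mul]

theorem mem_Me_of_maps {x : Γ} (h : ∀ m ∈ fx M d.A, x • m ∈ fx M d.A) : x ∈ d.Me := by
  intro m
  refine ⟨fun hm => ?_, h m⟩
  let f : ↥(fx M d.A) → ↥(fx M d.A) := fun v => ⟨x • (v : M), h _ v.2⟩
  have hf : Function.Injective f := fun a b e => Subtype.ext (smul_left_cancel x (congrArg Subtype.val e))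
  obtain ⟨v, hv⟩ := (Finite.injective_iff_surjective.1 hf) ⟨x • m, hm⟩
  exact smul_left_cancel x (congrArg Subtype.val hv) ▸ v.2

theorem eq_zero_of_conj {x : Γ} {r s : F} (hx : x ∉ d.Me) (h : x * d.up r * x⁻¹ = d.up s) : r = 0 := by
  by_contra hr
  have hs : s ≠ 0 := fun e => hr (d.up_injective (by
    rw [e, d.up_zero, conj_eq_one_iff] at h
    rw [h, d.up_zero]))
  refine hx (d.mem_Me_of_maps fun m hm => d.fix_of_ne_zero hs ?_)
  rw [← h, mul_smul, mul_smul, inv_smul_smul, hm _ ⟨r, rfl⟩]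

theorem up_pow_p (t : F) : d.up t ^ p = 1 := by
  have h : ∀ n : ℕ, d.up t ^ n = d.up (n * t) := by
    intro n
    induction n with
    | zero => simp [d.up_zero]
    | succ n ih => rw [pow_succ, ih, ← d.up_add]; push_cast; ring_nf
  rw [h, CharP.cast_eq_zero, zero_mul, d.up_zero]

/-- Outside conjugates of upper unitriangular elements avoid the stabiliser of the line. -/
theorem outside (hexc : ¬ (p = 2 ∧ Nat.card F = 4)) {x a : Γ} (hx : x ∉ d.Me) (ha : a ∈ d.A)
    (hxa : x * a * x⁻¹ ∈ d.Me) : a = 1 := by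
  classical
  by_contra ha1
  obtain ⟨t, rfl⟩ := d.mem_A.1 ha
  have ht : t ≠ 0 := fun e => ha1 (e ▸ d.up_zero)
  set b : ↥d.Me := ⟨x * d.up t * x⁻¹, hxa⟩ with hb
  have hbp : ((b : Γ)) ^ p ^ 1 = 1 := by
    show (x * d.up t * x⁻¹) ^ p ^ 1 = 1
    rw [pow_one, ← MulAut.conj_apply, ← map_pow, d.up_pow_p, map_one]
  have hτb : d.tauHom b ≠ 1 := fun e => by
    have h1 := d.mem_R_of_tau hbp e
    rw [d.R_eq] at h1
    obtain ⟨s, hs⟩ := d.mem_A.1 h1
    exact ht (d.eq_zero_of_conj hx hs.symm)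
  have hquad : ∀ m : M, (b : Γ) • ((b : Γ) • m - m) = (b : Γ) • m - m := fun m => by
    have h1 := d.quad ha ha (x⁻¹ • m)
    have h2 := congrArg (x • ·) h1
    simp only [smul_sub, smul_inv_smul] at h2
    simp only [hb, mul_smul, smul_sub, inv_smul_smul]
    exact h2
  -- the fixed field parameters
  let K : AddSubgroup F :=
    { carrier := {z | d.sig b z = z}
      zero_mem' := d.sig_zero b
      add_mem' := fun {u v} hu hv => by rw [Set.mem_ofPred_eq, d.sig_add, hu, hv]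
      neg_mem' := fun {u} (hu : d.sig b u = u) => by
        show d.sig b (-u) = -u
        refine eq_neg_of_add_eq_zero_left ?_
        nth_rw 2 [← hu]
        rw [← d.sig_add, neg_add_cancel, d.sig_zero] }
  have hsq : Nat.card F ≤ Nat.card ↥K * Nat.card ↥K := by
    let φ : F →+ F := AddMonoidHom.mk' (fun z => d.sig b z - z) (fun u v => by rw [d.sig_add]; abel)
    have hr : φ.range ≤ K := by
      rintro _ ⟨z, rfl⟩
      show d.sig b (d.sig b z - z) = d.sig b z - z
      have h1 := congrArg (fun v => d.ψ v 0) (hquad (d.pt z 0))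
      rw [d.smul_pt_line b.2, show d.pt (d.sig b z) 0 - d.pt z 0 = d.pt (d.sig b z - z) 0 from
        d.ext_ψ (by simp [d.ψ_pt]) (by simp [d.ψ_pt]), d.smul_pt_line b.2] at h1
      simpa [d.ψ_pt] using h1
    have hk : φ.ker = K := by
      ext z; exact sub_eq_zero
    rw [AddSubgroup.card_eq_card_quotient_mul_card_addSubgroup φ.ker,
      Nat.card_congr (QuotientAddGroup.quotientKerEquivRange φ).toEquiv, hk]
    exact Nat.mul_le_mul_right _ (Nat.le_of_dvd Nat.card_pos (AddSubgroup.card_dvd_of_le hr))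
  obtain ⟨y₀, hy₀, hy₀b⟩ : ∃ y₀, y₀ ≠ 0 ∧ d.bet b y₀ = y₀ := by
    by_cases hid : ∀ m, (b : Γ) • m - m ∈ fx M d.A
    · refine ⟨1, one_ne_zero, ?_⟩
      have h1 := d.mem_fxA.1 (hid (d.pt 0 1))
      rw [map_sub, Pi.sub_apply, sub_eq_zero, d.ψ_pt] at h1
      exact h1
    · push Not at hid
      obtain ⟨m, hm⟩ := hid
      set v := (b : Γ) • m - m with hv
      refine ⟨d.ψ v 1, fun e => hm (d.mem_fxA.2 e), ?_⟩
      have h1 : (b : Γ) • d.pt (d.ψ v 0) (d.ψ v 1) = v := by rw [d.pt_coe]; exact hquad m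
      rw [show d.pt (d.ψ v 0) (d.ψ v 1) = d.pt (d.ψ v 0) 0 + d.pt 0 (d.ψ v 1) from
        d.ext_ψ (by simp [d.ψ_pt]) (by simp [d.ψ_pt]), smul_add, d.smul_pt_line b.2] at h1
      have h2 := congrArg (fun z => d.ψ z 1) h1
      simpa [d.ψ_pt, bet] using h2
  -- the centralised unitriangular elements
  let P : Subgroup Γ := d.A ⊓ Subgroup.centralizer {(b : Γ)}
  have hcard : Nat.card ↥K ≤ Nat.card ↥P := by
    refine Nat.card_le_card_of_injective (fun z => ⟨d.up ((z : F) / y₀), ⟨_, rfl⟩,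
      Subgroup.mem_centralizer_singleton_iff.2 ?_⟩) (fun u v e => ?_)
    · obtain ⟨s, hs⟩ := d.conj_up b.2 ((z : F) / y₀)
      have h1 := d.sig_mul b.2 hs y₀
      rw [div_mul_cancel₀ _ hy₀, hy₀b, show d.sig b z = z from z.2] at h1
      rw [show (z : F) / y₀ = s by rw [h1, mul_div_cancel_right₀ _ hy₀]]
      rw [show (z : F) / y₀ = s by rw [h1, mul_div_cancel_right₀ _ hy₀], mul_inv_eq_iff_eq_mul] at hs
      exact hs.symm
    · exact Subtype.ext ((div_left_inj' hy₀).1 (d.up_injective (congrArg (fun w : ↥P => (w : Γ)) e)))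
  have hmem : ∀ w : ↥P, x⁻¹ * (w : Γ) * x ∈ d.Me := fun w => by
    refine d.mem_Me_of_maps fun m hm => d.fix_of_ne_zero ht ?_
    have h1 : (b : Γ) * w = w * b := (Subgroup.mem_centralizer_singleton_iff.1 w.2.2).symm
    have h2 : (b : Γ) • x • m = x • m := by
      simp only [hb, mul_smul, inv_smul_smul, hm _ ha]
    have h3 : (b : Γ) • (w : Γ) • x • m = (w : Γ) • x • m := by rw [← mul_smul, h1, mul_smul, h2]
    have h4 := congrArg (x⁻¹ • ·) h3
    simp only [hb, mul_smul, inv_smul_smul] at h4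
    simpa [mul_smul] using h4
  let φ : ↥P →* ↥d.Me := MonoidHom.mk' (fun w => ⟨x⁻¹ * (w : Γ) * x, hmem w⟩)
    (fun u v => Subtype.ext (by simp [mul_assoc]))
  have hPp : ∀ w : ↥P, w ^ p = 1 := fun w => by
    obtain ⟨s, hs⟩ := d.mem_A.1 w.2.1
    exact Subtype.ext (by rw [Subgroup.coe_pow, ← hs, d.up_pow_p]; rfl)
  have hPle : Nat.card ↥P ≤ p := card_le_of_ringAut hPp (d.tauHom.comp φ)
    ((injective_iff_map_eq_one _).2 fun w hw => by
      have h1 := d.mem_R_of_tau (g := φ w) (k := 1) (by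
        rw [pow_one, ← Subgroup.coe_pow, ← map_pow, hPp, map_one, Subgroup.coe_one]) hw
      rw [d.R_eq] at h1
      obtain ⟨r, hr⟩ := d.mem_A.1 h1
      obtain ⟨s, hs⟩ := d.mem_A.1 w.2.1
      change d.up r = x⁻¹ * (w : Γ) * x at hr
      have h0 := d.eq_zero_of_conj (r := r) (s := s) hx (by rw [hr, hs]; group)
      rw [h0, d.up_zero] at hr
      refine Subtype.ext ?_
      have h2 := congrArg (fun u => x * u * x⁻¹) hr.symm
      simpa [mul_assoc] using h2)
  -- so the field is tiny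
  obtain ⟨n, hp', hq⟩ : ∃ n : ℕ+, p.Prime ∧ Nat.card F = p ^ (n : ℕ) := by
    haveI := Fintype.ofFinite F
    obtain ⟨n, h1, h2⟩ := FiniteField.card F p
    exact ⟨n, h1, by rw [Nat.card_eq_fintype_card, h2]⟩
  have hle : p ^ (n : ℕ) ≤ p ^ 2 := by
    rw [← hq, sq]
    exact hsq.trans (Nat.mul_le_mul (hcard.trans hPle) (hcard.trans hPle))
  have hn2 := (Nat.pow_le_pow_iff_right hp'.one_lt).1 hle
  rcases (show (n : ℕ) = 1 ∨ (n : ℕ) = 2 by have := n.pos; omega) with h1 | h2
  · rw [h1, pow_one] at hq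
    exact hτb (eq_one_of_card_eq hq _)
  · rw [h2] at hq
    by_cases hp2 : p = 2
    · exact hexc ⟨hp2, by rw [hq, hp2]; rfl⟩
    refine hτb ?_
    have hpow : d.tauHom b ^ p = 1 := by
      rw [← map_pow, show b ^ p = 1 from Subtype.ext (by simpa using hbp), map_one]
    refine pow_eq_one_iff_of_coprime ?_ |>.1 ⟨hpow, pow_two_of_card_sq hq _⟩
    exact (Nat.coprime_primes hp' Nat.prime_two).2 hp2

end Data

end CfsgLib.LocalEven.NatSylow
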